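import Groth.Agent.Lib.RegSmooth17.Basic
import Mathlib.AlgebraicGeometry.Morphisms.Smooth
import Mathlib.AlgebraicGeometry.ResidueField
import Mathlib.RingTheory.RingHom.Unramified

/-!
# Regular points with separable residue field are smooth points
-/

set_option autoImplicit false
set_option linter.style.haveILetI false
universe u

open CategoryTheory AlgebraicGeometry IsLocalRing

namespace Groth.Agent.RegSmooth17

variable {k : Type u} [Field k] {X : Scheme.{u}}

/-- The map from the base field to the local ring. -/
noncomputable def toStalk (f : X ⟶ Spec (CommRingCat.of k)) (x : X) : k →+* X.presheaf.stalk x :=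
  ((Scheme.ΓSpecIso (CommRingCat.of k)).inv ≫ f.appTop ≫ X.presheaf.germ ⊤ x trivial).hom

theorem toStalk_eq (f : X ⟶ Spec (CommRingCat.of k)) (x : X) :
    toStalk f x = (f.stalkMap x).hom.comp
      (((Spec (CommRingCat.of k)).presheaf.germ ⊤ (f x) trivial).hom.comp
        (Scheme.ΓSpecIso (CommRingCat.of k)).inv.hom) := by
  have : f.appTop ≫ X.presheaf.germ ⊤ x trivial =
      (Spec (CommRingCat.of k)).presheaf.germ ⊤ (f x) trivial ≫ f.stalkMap x :=
    (Scheme.Hom.germ_stalkMap f ⊤ x trivial).symm
  rw [toStalk, this]
  rfl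

theorem formallyUnramified_germ (y : Spec (CommRingCat.of k)) :
    (((Spec (CommRingCat.of k)).presheaf.germ ⊤ y trivial).hom.comp
        (Scheme.ΓSpecIso (CommRingCat.of k)).inv.hom).FormallyUnramified := by
  have hU := isAffineOpen_top (Spec (CommRingCat.of k))
  letI := (Spec (CommRingCat.of k)).presheaf.algebra_section_stalk (U := ⊤) ⟨y, trivial⟩
  haveI := hU.isLocalization_stalk ⟨y, trivial⟩
  refine RingHom.FormallyUnramified.comp
    (RingHom.FormallyUnramified.of_surjective
      (ConcreteCategory.bijective_of_isIso (Scheme.ΓSpecIso (CommRingCat.of k)).inv).2) ?_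
  change (algebraMap Γ(Spec (CommRingCat.of k), ⊤) ((Spec (CommRingCat.of k)).presheaf.stalk y)).FormallyUnramified
  rw [RingHom.formallyUnramified_algebraMap]
  exact Algebra.FormallyUnramified.of_isLocalization (hU.primeIdealOf ⟨y, trivial⟩).asIdeal.primeCompl

theorem mem_smoothLocus_of_toStalk (f : X ⟶ Spec (CommRingCat.of k)) [LocallyOfFinitePresentation f]
    (x : X) (h : (toStalk f x).FormallySmooth) : x ∈ f.smoothLocus := by
  rw [Scheme.Hom.mem_smoothLocus]
  rw [toStalk_eq] at h
  have hu := formallyUnramified_germ (k := k) (f x)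
  algebraize [((Spec (CommRingCat.of k)).presheaf.germ ⊤ (f x) trivial).hom.comp
    (Scheme.ΓSpecIso (CommRingCat.of k)).inv.hom, (f.stalkMap x).hom,
    (f.stalkMap x).hom.comp (((Spec (CommRingCat.of k)).presheaf.germ ⊤ (f x) trivial).hom.comp
      (Scheme.ΓSpecIso (CommRingCat.of k)).inv.hom)]
  exact Algebra.FormallySmooth.of_restrictScalars k _ _

/-- A point with regular local ring and formally smooth residue field lies in the smooth locus. -/
theorem mem_smoothLocus_of_isRegularLocalRing (f : X ⟶ Spec (CommRingCat.of k))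
    [LocallyOfFinitePresentation f] (x : X) [IsRegularLocalRing (X.presheaf.stalk x)]
    (hres : ((X.residue x).hom.comp (toStalk f x)).FormallySmooth) : x ∈ f.smoothLocus := by
  apply mem_smoothLocus_of_toStalk
  obtain ⟨V, hV, hxV, -⟩ := exists_isAffineOpen_mem_and_subset (show x ∈ (⊤ : X.Opens) from trivial)
  let φ : k →+* Γ(X, V) := ((Scheme.ΓSpecIso (CommRingCat.of k)).inv ≫ f.appLE ⊤ V le_top).hom
  have hφ : φ.FiniteType := RingHom.FiniteType.comp
    (f.finiteType_appLE (isAffineOpen_top (Spec (CommRingCat.of k))) hV le_top)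
    (RingHom.FiniteType.of_surjective _
      (ConcreteCategory.bijective_of_isIso (Scheme.ΓSpecIso (CommRingCat.of k)).inv).2)
  have hto : toStalk f x = (X.presheaf.germ V x hxV).hom.comp φ := by
    rw [toStalk, ← CommRingCat.hom_comp, Category.assoc]
    congr 2
    delta Scheme.Hom.appLE
    rw [Category.assoc, TopCat.Presheaf.germ_res]
    rfl
  letI := φ.toAlgebra
  haveI : Algebra.FiniteType k Γ(X, V) := hφ
  letI := X.presheaf.algebra_section_stalk (U := V) ⟨x, hxV⟩
  haveI := hV.isLocalization_stalk ⟨x, hxV⟩
  let q := (hV.primeIdealOf ⟨x, hxV⟩).asIdeal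
  let e₀ : Localization.AtPrime q ≃ₐ[Γ(X, V)] X.presheaf.stalk x :=
    IsLocalization.algEquiv q.primeCompl (Localization.AtPrime q) (X.presheaf.stalk x)
  haveI : IsRegularLocalRing (Localization.AtPrime q) := IsRegularLocalRing.of_ringEquiv e₀.symm.toRingEquiv
  letI := (toStalk f x).toAlgebra
  haveI : IsScalarTower k Γ(X, V) (X.presheaf.stalk x) := IsScalarTower.of_algebraMap_eq' hto
  let e := e₀.restrictScalars k
  letI : Algebra k (X.residueField x) := ((X.residue x).hom.comp (toStalk f x)).toAlgebra
  haveI : Algebra.FormallySmooth k (X.residueField x) := hres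
  let er : q.ResidueField ≃ₐ[k] X.residueField x :=
    AlgEquiv.ofRingEquiv (f := IsLocalRing.ResidueField.mapEquiv e₀.toRingEquiv) fun c => by
      change ResidueField.map _ (residue _ (algebraMap k (Localization.AtPrime q) c)) = _
      rw [ResidueField.map_residue]
      change residue _ (e (algebraMap k (Localization.AtPrime q) c)) = _
      rw [AlgEquiv.commutes]
      rfl
  haveI : Algebra.FormallySmooth k q.ResidueField := .of_equiv er.symm
  haveI : Algebra.FormallySmooth k (Localization.AtPrime q) :=
    isSmoothAt_of_isRegularLocalRing k Γ(X, V) q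
  exact (RingHom.formallySmooth_algebraMap (R := k) (S := X.presheaf.stalk x)).2
    (Algebra.FormallySmooth.of_equiv (A := Localization.AtPrime q) e)

theorem formallySmooth_residue_of_perfectField [PerfectField k] (f : X ⟶ Spec (CommRingCat.of k))
    [LocallyOfFiniteType f] (x : X) : ((X.residue x).hom.comp (toStalk f x)).FormallySmooth := by
  letI : Algebra k (X.residueField x) := ((X.residue x).hom.comp (toStalk f x)).toAlgebra
  haveI : Algebra.EssFiniteType k (X.residueField x) := by
    refine RingHom.essFiniteType_algebraMap.1 ?_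
    refine RingHom.EssFiniteType.comp ?_
      (RingHom.FiniteType.of_surjective _ (X.residue_surjective x)).essFiniteType
    rw [toStalk_eq]
    refine RingHom.EssFiniteType.comp (RingHom.EssFiniteType.comp ?_ ?_) (LocallyOfFiniteType.stalkMap f x)
    · exact (RingHom.FiniteType.of_surjective _
        (ConcreteCategory.bijective_of_isIso (Scheme.ΓSpecIso (CommRingCat.of k)).inv).2).essFiniteType
    · have hU := isAffineOpen_top (Spec (CommRingCat.of k))
      letI := (Spec (CommRingCat.of k)).presheaf.algebra_section_stalk (U := ⊤) ⟨f x, trivial⟩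
      haveI := hU.isLocalization_stalk ⟨f x, trivial⟩
      exact RingHom.essFiniteType_algebraMap.2
        (Algebra.EssFiniteType.of_isLocalization _ (hU.primeIdealOf ⟨f x, trivial⟩).asIdeal.primeCompl)
  exact (RingHom.formallySmooth_algebraMap).2 inferInstance

theorem smooth_of_regular_of_perfectField [PerfectField k] (f : X ⟶ Spec (CommRingCat.of k))
    [LocallyOfFinitePresentation f] (h : ∀ x, IsRegularLocalRing (X.presheaf.stalk x)) : Smooth f := by
  rw [← Scheme.Hom.smoothLocus_eq_top_iff, ← top_le_iff]
  intro x _
  haveI := h x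
  exact mem_smoothLocus_of_isRegularLocalRing f x (formallySmooth_residue_of_perfectField f x)

end Groth.Agent.RegSmooth17
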