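import Groth.Agent.Lib.RegSmooth17.Local
import Mathlib.RingTheory.RegularLocalRing.Polynomial
import Mathlib.RingTheory.Kaehler.Polynomial
import Mathlib.RingTheory.Etale.Kaehler
import Mathlib.RingTheory.Smooth.Locus
import Mathlib.RingTheory.Smooth.Field
import Mathlib.RingTheory.LocalRing.ResidueField.Ideal

/-!
# Regular + separable residue field implies smooth, for algebras of finite type over a field
-/

set_option autoImplicit false
set_option linter.style.haveILetI false
universe u

open IsLocalRing

namespace Groth.Agent.RegSmooth17

theorem isSmoothAt_of_isRegularLocalRing (k B : Type u) [Field k] [CommRing B] [Algebra k B]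
    [Algebra.FiniteType k B] (q : Ideal B) [q.IsPrime] [IsRegularLocalRing (Localization.AtPrime q)]
    [Algebra.FormallySmooth k q.ResidueField] : Algebra.IsSmoothAt k q := by
  obtain ⟨n, g, hg⟩ := Algebra.FiniteType.iff_quotient_mvPolynomial''.1 ‹Algebra.FiniteType k B›
  let A := MvPolynomial (Fin n) k
  haveI : IsRegularRing A := inferInstance
  let Q : Ideal A := q.comap g.toRingHom
  let P := Localization.AtPrime Q
  haveI : IsRegularLocalRing P := IsRegularRing.isRegularLocalRing_localization Q
  haveI : Algebra.FormallyEtale A P := Algebra.FormallyEtale.of_isLocalization Q.primeCompl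
  haveI : Algebra.FormallySmooth k P := .comp k A P
  haveI : Module.Free P Ω[P⁄k] :=
    Module.Free.of_equiv (KaehlerDifferential.tensorKaehlerEquivOfFormallyEtale k A P)
  haveI : Module.Finite P Ω[P⁄k] :=
    Module.Finite.equiv (KaehlerDifferential.tensorKaehlerEquivOfFormallyEtale k A P)
  let S := Localization.AtPrime q
  let ψ₀ : P →+* S := Localization.localRingHom Q q g.toRingHom rfl
  let ψ : P →ₐ[k] S :=
    { ψ₀ with
      commutes' := fun c => by
        change ψ₀ (algebraMap k P c) = algebraMap k S c
        rw [IsScalarTower.algebraMap_apply k A P, Localization.localRingHom_to_map]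
        change algebraMap B S (g (algebraMap k A c)) = _
        rw [AlgHom.commutes, ← IsScalarTower.algebraMap_apply] }
  have hψ : Function.Surjective ψ := by
    intro y
    obtain ⟨b, s, rfl⟩ := IsLocalization.exists_mk'_eq q.primeCompl y
    obtain ⟨a, ha⟩ := hg b
    obtain ⟨t, ht⟩ := hg s
    have htQ : t ∈ Q.primeCompl := fun h => s.2 (ht ▸ h)
    refine ⟨IsLocalization.mk' P a ⟨t, htQ⟩, ?_⟩
    change ψ₀ _ = _
    rw [Localization.localRingHom_mk']
    congr 1
    exact Subtype.ext ht
  let I := RingHom.ker ψ
  let e : (P ⧸ I) ≃ₐ[k] S := Ideal.quotientKerAlgEquivOfSurjective hψ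
  haveI : IsRegularLocalRing (P ⧸ I) := IsRegularLocalRing.of_ringEquiv e.toRingEquiv.symm
  haveI : Algebra.FormallySmooth k (ResidueField P) := by
    haveI : IsLocalHom ψ.toRingHom := Localization.isLocalHom_localRingHom Q q g.toRingHom rfl
    let ρ : ResidueField P →ₐ[k] ResidueField S :=
      { ResidueField.map ψ.toRingHom with
        commutes' := fun c => by
          change ResidueField.map ψ.toRingHom (residue P (algebraMap k P c)) = _
          rw [ResidueField.map_residue]
          change residue S (ψ (algebraMap k P c)) = _
          rw [AlgHom.commutes]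
          rfl }
    have hρ : Function.Bijective ρ := by
      refine ⟨RingHom.injective ρ.toRingHom, fun y => ?_⟩
      obtain ⟨y, rfl⟩ := residue_surjective y
      obtain ⟨x, rfl⟩ := hψ y
      exact ⟨residue P x, ResidueField.map_residue ψ.toRingHom x⟩
    haveI : Algebra.FormallySmooth k (ResidueField S) := ‹Algebra.FormallySmooth k q.ResidueField›
    exact .of_equiv (AlgEquiv.ofBijective ρ hρ).symm
  haveI := formallySmooth_quotient (k := k) I
  exact Algebra.FormallySmooth.of_equiv (A := P ⧸ I) e

end Groth.Agent.RegSmooth17
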