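import Groth.Agent.Lib.RegLoc.Sop
import Mathlib.RingTheory.Smooth.Local
import Mathlib.LinearAlgebra.TensorProduct.Quotient
import Mathlib.Tactic

/-!
# Regular quotients with separable residue field are formally smooth
-/

set_option autoImplicit false
set_option linter.style.haveILetI false
universe u

open TensorProduct IsLocalRing

namespace Groth.Agent.RegSmooth17

theorem mem_maximalIdeal_of_sum_mem {P : Type u} [CommRing P] [IsRegularLocalRing P] {d : ℕ}
    (hd : (maximalIdeal P).spanFinrank = d) {x : Fin d → P}
    (hx : Ideal.span (Set.range x) = maximalIdeal P) {r : Fin d → P}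
    (hr : ∑ i, r i * x i ∈ maximalIdeal P * maximalIdeal P) (i : Fin d) : r i ∈ maximalIdeal P := by
  classical
  by_contra hri
  obtain ⟨v, hv⟩ := isUnit_iff_exists_inv.1 (notMem_maximalIdeal.1 hri)
  let T : Set P := x '' {j | j ≠ i}
  have hmem : ∀ j, x j ∈ Ideal.span T ⊔ maximalIdeal P * maximalIdeal P := by
    intro j
    by_cases hj : j = i
    · subst hj
      have h1 : r j * x j ∈ Ideal.span T ⊔ maximalIdeal P * maximalIdeal P := by
        have : r j * x j = ∑ l, r l * x l - ∑ l ∈ Finset.univ.erase j, r l * x l := by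
          rw [← Finset.sum_erase_add _ _ (Finset.mem_univ j), add_sub_cancel_left]
        rw [this]
        refine sub_mem (Ideal.mem_sup_right hr) (sum_mem fun l hl => Ideal.mul_mem_left _ _ ?_)
        exact Ideal.mem_sup_left (Ideal.subset_span ⟨l, (Finset.mem_erase.1 hl).1, rfl⟩)
      have := Ideal.mul_mem_left _ v h1
      rwa [← mul_assoc, mul_comm v (r j), hv, one_mul] at this
    · exact Ideal.mem_sup_left (Ideal.subset_span ⟨j, hj, rfl⟩)
  have hle : maximalIdeal P ≤ Ideal.span T ⊔ maximalIdeal P • maximalIdeal P := by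
    rw [smul_eq_mul]
    conv_lhs => rw [← hx]
    rw [Ideal.span_le]
    rintro _ ⟨j, rfl⟩
    exact hmem j
  have hTle := Submodule.le_of_le_smul_of_le_jacobson_bot (IsNoetherian.noetherian _) (maximalIdeal_le_jacobson _) hle
  have hTeq : maximalIdeal P = Ideal.span T :=
    le_antisymm hTle (Ideal.span_le.2 (by
      rintro _ ⟨j, -, rfl⟩
      exact hx ▸ Ideal.subset_span ⟨j, rfl⟩))
  have h4 : (maximalIdeal P).spanFinrank ≤ {j : Fin d | j ≠ i}.ncard := by
    rw [hTeq]
    exact (Submodule.spanFinrank_span_le_ncard_of_finite ((Set.toFinite _).image _)).trans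
      (Set.ncard_image_le (Set.toFinite _))
  have h5 : {j : Fin d | j ≠ i}.ncard < (Set.univ : Set (Fin d)).ncard :=
    Set.ncard_lt_ncard ⟨Set.subset_univ _, fun h => h (Set.mem_univ i) rfl⟩
  rw [Set.ncard_univ, Nat.card_eq_fintype_card, Fintype.card_fin] at h5
  omega

/-- A regular quotient of a regular local formally smooth algebra over a field is formally smooth
as soon as the residue field is. -/
theorem formallySmooth_quotient {k P : Type u} [Field k] [CommRing P] [IsRegularLocalRing P]
    [Algebra k P] [Algebra.FormallySmooth k P] [Module.Free P Ω[P⁄k]] [Module.Finite P Ω[P⁄k]]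
    (I : Ideal P) [IsRegularLocalRing (P ⧸ I)] [Algebra.FormallySmooth k (ResidueField P)] :
    Algebra.FormallySmooth k (P ⧸ I) := by
  classical
  have hI : I ≤ maximalIdeal P := le_maximalIdeal (Ideal.Quotient.nontrivial_iff.1 inferInstance)
  let ψ : P ⧸ I →+* ResidueField P := Ideal.Quotient.lift I (residue P) fun a ha =>
    (residue_eq_zero_iff a).2 (hI ha)
  letI : Algebra (P ⧸ I) (ResidueField P) := ψ.toAlgebra
  haveI : IsScalarTower P (P ⧸ I) (ResidueField P) := IsScalarTower.of_algebraMap_eq fun a => rfl
  have hkI : RingHom.ker (algebraMap P (P ⧸ I)) = I := Ideal.mk_ker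
  have hkκ : RingHom.ker (algebraMap P (ResidueField P)) = maximalIdeal P := IsLocalRing.ker_residue
  have h₃ : maximalIdeal (P ⧸ I) ≤ RingHom.ker (algebraMap (P ⧸ I) (ResidueField P)) := by
    intro a ha
    obtain ⟨a, rfl⟩ := Ideal.Quotient.mk_surjective a
    rw [RingHom.mem_ker]
    exact (residue_eq_zero_iff a).2 fun hu => ha (hu.map _)
  rw [Algebra.FormallySmooth.iff_injective_cotangentComplexBaseChange P (ResidueField P)
    Ideal.Quotient.mk_surjective (IsNoetherian.noetherian _) h₃]
  have hκ : Function.Injective (KaehlerDifferential.cotangentComplexBaseChange k (ResidueField P) P (ResidueField P)) :=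
    (Algebra.FormallySmooth.iff_injective_cotangentComplexBaseChange (S := ResidueField P) P (ResidueField P)
      residue_surjective (IsNoetherian.noetherian _)
      (by rw [isField_iff_maximalIdeal_eq.1 (Field.toIsField (ResidueField P))]; exact bot_le)).1 inferInstance
  obtain ⟨x, c, hc, hx, hIx⟩ := RegLoc.exists_generators_of_regular_quotient (maximalIdeal P).spanFinrank P I rfl
  let incl : RingHom.ker (algebraMap P (P ⧸ I)) →ₗ[P] RingHom.ker (algebraMap P (ResidueField P)) :=
    Submodule.inclusion (by rw [hkI, hkκ]; exact hI)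
  let κ := ResidueField P
  have hcomp : ∀ z, KaehlerDifferential.cotangentComplexBaseChange k κ P κ (incl.baseChange κ z) =
      KaehlerDifferential.cotangentComplexBaseChange k (P ⧸ I) P κ z := by
    intro z
    induction z using TensorProduct.induction_on with
    | zero => simp only [map_zero]
    | add a b ha hb => simp only [map_add, ha, hb]
    | tmul a b =>
      simp only [LinearMap.baseChange_tmul, KaehlerDifferential.cotangentComplexBaseChange_tmul]
      rfl
  suffices hinj : Function.Injective (incl.baseChange κ) by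
    intro a b hab
    rw [← hcomp, ← hcomp] at hab
    exact hinj (hκ hab)
  -- generators
  have hxI : ∀ i : Fin c, x (Fin.castLE hc i) ∈ RingHom.ker (algebraMap P (P ⧸ I)) := fun i => by
    rw [hkI, hIx]; exact Ideal.subset_span ⟨i, rfl⟩
  let w : Fin c → RingHom.ker (algebraMap P (P ⧸ I)) := fun i => ⟨_, hxI i⟩
  have hw : Submodule.span P (Set.range w) = ⊤ := by
    apply Submodule.map_injective_of_injective (Submodule.subtype_injective (RingHom.ker (algebraMap P (P ⧸ I))))
    rw [Submodule.map_span, Submodule.map_subtype_top, ← Set.range_comp]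
    exact hIx.symm.trans hkI.symm
  have hrep : ∀ z : κ ⊗[P] RingHom.ker (algebraMap P (P ⧸ I)),
      ∃ r : Fin c → P, z = (1 : κ) ⊗ₜ[P] (∑ i, r i • w i) := by
    intro z
    induction z using TensorProduct.induction_on with
    | zero => exact ⟨0, by simp⟩
    | add a b ha hb =>
      obtain ⟨r, rfl⟩ := ha
      obtain ⟨r', rfl⟩ := hb
      exact ⟨r + r', by simp only [Pi.add_apply, add_smul, Finset.sum_add_distrib, TensorProduct.tmul_add]⟩
    | tmul a b =>
      obtain ⟨a, rfl⟩ := residue_surjective (R := P) a
      obtain ⟨r, hr⟩ := (Submodule.mem_span_range_iff_exists_fun P).1 (hw ▸ Submodule.mem_top : b ∈ Submodule.span P (Set.range w))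
      refine ⟨fun i => a * r i, ?_⟩
      simp only [mul_smul, ← Finset.smul_sum, hr]
      rw [TensorProduct.tmul_smul, TensorProduct.smul_tmul', Algebra.smul_def, mul_one]
      rfl
  rw [injective_iff_map_eq_zero]
  intro z hz
  obtain ⟨r, rfl⟩ := hrep z
  rw [LinearMap.baseChange_tmul] at hz
  let J := RingHom.ker (algebraMap P (ResidueField P))
  have hv : incl (∑ i, r i • w i) ∈ maximalIdeal P • (⊤ : Submodule P J) := by
    have h1 := congrArg (TensorProduct.quotTensorEquivQuotSMul J (maximalIdeal P)) hz
    rw [← Submodule.Quotient.mk_eq_zero]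
    refine Eq.trans ?_ (h1.trans (LinearEquiv.map_zero _))
    exact ((TensorProduct.quotTensorEquivQuotSMul_mk_tmul (maximalIdeal P) (1 : P) _).trans
      (by rw [one_smul])).symm
  have hv' : ((incl (∑ i, r i • w i) : J) : P) ∈ maximalIdeal P * maximalIdeal P := by
    have h1 := Submodule.mem_map_of_mem (f := Submodule.subtype J) hv
    rw [Submodule.map_smul'', Submodule.map_subtype_top, smul_eq_mul] at h1
    exact Ideal.mul_mono_right (le_of_eq hkκ) h1
  have hr : ∀ i, r i ∈ maximalIdeal P := by
    intro i
    let r' : Fin (maximalIdeal P).spanFinrank → P := fun j => if h : (j : ℕ) < c then r ⟨j, h⟩ else 0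
    have hsum : ∑ j, r' j * x j ∈ maximalIdeal P * maximalIdeal P := by
      have he : ∑ j, r' j * x j = ((incl (∑ i, r i • w i) : J) : P) := by
        change _ = ((∑ i, r i • w i : RingHom.ker (algebraMap P (P ⧸ I))) : P)
        rw [AddSubmonoidClass.coe_finsetSum]
        refine (Fintype.sum_of_injective (Fin.castLE hc) (Fin.castLE_injective hc) _ _ (fun j hj => ?_) fun j => ?_).symm
        · have : ¬ (j : ℕ) < c := fun h => hj ⟨⟨j, h⟩, rfl⟩
          simp [r', this]
        · simp [r', w]
      rw [he]; exact hv'
    have := mem_maximalIdeal_of_sum_mem rfl hx hsum (Fin.castLE hc i)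
    simpa [r'] using this
  rw [TensorProduct.tmul_sum]
  refine Finset.sum_eq_zero fun i _ => ?_
  rw [TensorProduct.tmul_smul, TensorProduct.smul_tmul', Algebra.smul_def, mul_one]
  rw [show algebraMap P κ (r i) = 0 from (residue_eq_zero_iff _).2 (hr i), TensorProduct.zero_tmul]

end Groth.Agent.RegSmooth17
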